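import Mathlib.RingTheory.IntegralDomain
import Mathlib.Algebra.Ring.Subring.Basic
import Mathlib.Algebra.CharP.Lemmas
import Mathlib.Algebra.CharP.Basic
import Mathlib.GroupTheory.SpecificGroups.Cyclic
import Mathlib.GroupTheory.GroupAction.Quotient
import Mathlib.GroupTheory.PGroup
import Mathlib.Algebra.Group.Subgroup.Pointwise
import Mathlib.Data.Nat.GCD.Basic
import Mathlib.Algebra.Field.Basic

/-!
A cyclic group of order `(p ^ q - 1) / (p - 1)` acting fixed-point-freely on an elementary abelian
group of order `p ^ q` is the group of norm-one elements of the field with `p ^ q` elements acting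
by multiplication.
-/

set_option autoImplicit false

universe u

namespace CfsgLib.Parabolic

open scoped Classical

/-- The elements of norm one. -/
def normOne (F : Type u) [Field F] (n : ℕ) : Subgroup Fˣ := (powMonoidHom n).ker

theorem mem_normOne {F : Type u} [Field F] {n : ℕ} {b : Fˣ} :
    b ∈ normOne F n ↔ (b : F) ^ n = 1 := by
  rw [normOne, MonoidHom.mem_ker, powMonoidHom_apply, Units.ext_iff, Units.val_pow_eq_pow_val,
    Units.val_one]

/-- The subgroup `A` acting on `P` is the norm-one group of `F` acting on `F` by multiplication. -/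
structure IsFieldModel {G : Type u} [Group G] (A P : Subgroup G) (p q n : ℕ) (F : Type u) [Field F]
    (α : Multiplicative F →* G) (μ : normOne F n →* G) : Prop where
  char : CharP F p
  finite : Finite F
  card : Nat.card F = p ^ q
  inj : Function.Injective α
  range_eq : α.range = P
  μ_inj : Function.Injective μ
  μ_range : μ.range = A
  conj : ∀ (b : normOne F n) (x : F), μ b * α (Multiplicative.ofAdd x) * (μ b)⁻¹
    = α (Multiplicative.ofAdd (((b : Fˣ) : F) * x))

section

variable {G : Type u} [Group G] {A P : Subgroup G} {p q : ℕ}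

theorem lt_of_dvd_pow_sub_one (hp : p.Prime) (hq : q.Prime) {k : ℕ}
    (hdvd : (p ^ q - 1) / (p - 1) ∣ p ^ k - 1) (hk : k < q) : k = 0 := by
  by_contra hk0
  have hp2 := hp.two_le
  set n := (p ^ q - 1) / (p - 1) with hn
  have h1 : n ∣ p ^ q - 1 :=
    Nat.div_dvd_of_dvd (by simpa using Nat.sub_dvd_pow_sub_pow p 1 q)
  have h2 : n ∣ p - 1 := by
    have h := Nat.dvd_gcd h1 hdvd
    rw [Nat.pow_sub_one_gcd_pow_sub_one,
      (Nat.coprime_or_dvd_of_prime hq k).elim id (fun h => by
        exact absurd (Nat.le_of_dvd (Nat.pos_of_ne_zero hk0) h) (by omega))] at h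
    simpa using h
  have h3 : p + 1 ≤ n := by
    rw [hn, Nat.le_div_iff_mul_le (by omega)]
    have : p ^ 2 ≤ p ^ q := Nat.pow_le_pow_right (by omega) hq.two_le
    have e : (p + 1) * (p - 1) = p ^ 2 - 1 := by
      rw [sq, ← Nat.mul_self_sub_mul_self_eq, Nat.mul_one]
    omega
  have := Nat.le_of_dvd (by omega) h2
  omega

/-- A group acting freely on the non-trivial elements of a group has order dividing `|W| - 1`. -/
theorem card_dvd_card_sub_one [Finite G] (W : Subgroup G)
    (hconj : ∀ a ∈ A, ∀ v ∈ W, a * v * a⁻¹ ∈ W)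
    (hfree : ∀ a ∈ A, ∀ v ∈ W, a * v * a⁻¹ = v → a = 1 ∨ v = 1) :
    Nat.card A ∣ Nat.card W - 1 := by
  let X := {v : G // v ∈ W ∧ v ≠ 1}
  letI : MulAction A X :=
    { smul := fun a v => ⟨a * v.1 * (a : G)⁻¹, hconj a a.2 v v.2.1, fun h => v.2.2 (by
        simpa using h)⟩
      one_smul := fun v => Subtype.ext (show ((1 : A) : G) * v.1 * ((1 : A) : G)⁻¹ = v.1 by simp)
      mul_smul := fun a b v => Subtype.ext (show ((a * b : A) : G) * v.1 * ((a * b : A) : G)⁻¹
        = a * (b * v.1 * (b : G)⁻¹) * (a : G)⁻¹ by simp [mul_assoc]) }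
  have hfix : ∀ v : X, MulAction.stabilizer A v = ⊥ := by
    intro v
    rw [eq_bot_iff]
    intro a ha
    have h : (a : G) * v.1 * (a : G)⁻¹ = v.1 := congrArg Subtype.val ha
    rcases hfree a a.2 v v.2.1 h with h' | h'
    · exact Subtype.ext h'
    · exact absurd h' v.2.2
  have hX : Nat.card X = Nat.card W - 1 := by
    have : Fintype G := Fintype.ofFinite G
    rw [Nat.card_eq_fintype_card, Nat.card_eq_fintype_card, Fintype.card_subtype,
      Fintype.card_subtype, ← Finset.card_erase_of_mem (s := Finset.univ.filter (· ∈ W))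
        (a := (1 : G)) (by simp)]
    congr 1
    ext v
    simp [and_comm]
  rw [← hX]
  have : Fintype (MulAction.orbitRel.Quotient A X) := Fintype.ofFinite _
  rw [Nat.card_congr (MulAction.selfEquivSigmaOrbits A X), Nat.card_sigma]
  refine Finset.dvd_sum fun ω _ => ?_
  have h := MulAction.index_stabilizer A (Quotient.out ω)
  rw [hfix, Subgroup.index_bot, ← Nat.card_coe_set_eq] at h
  exact dvd_of_eq h

theorem irreducible [Finite G] (hp : p.Prime) (hq : q.Prime)
    (hPc : Nat.card P = p ^ q) (hAn : Nat.card A = (p ^ q - 1) / (p - 1))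
    (hfree : ∀ a ∈ A, ∀ v ∈ P, a * v * a⁻¹ = v → a = 1 ∨ v = 1) (W : Subgroup G) (hWP : W ≤ P)
    (hWinv : ∀ a ∈ A, ∀ v ∈ W, a * v * a⁻¹ ∈ W) : W = ⊥ ∨ W = P := by
  have hd : Nat.card W ∣ p ^ q := hPc ▸ Subgroup.card_dvd_of_le hWP
  obtain ⟨k, hk, hWk⟩ := (Nat.dvd_prime_pow hp).1 hd
  rcases hk.lt_or_eq with hlt | rfl
  · left
    have h := card_dvd_card_sub_one W hWinv fun a ha v hv => hfree a ha v (hWP hv)
    rw [hAn, hWk] at h
    rw [lt_of_dvd_pow_sub_one hp hq h hlt, pow_zero] at hWk
    exact Subgroup.card_eq_one.1 hWk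
  · right
    exact Subgroup.eq_of_le_of_card_ge hWP (by rw [hPc, hWk])

theorem exists_fieldModel [Finite G] (hp : p.Prime) (hq : q.Prime) (hab : IsMulCommutative P)
    (hpow : ∀ v ∈ P, v ^ p = 1) (hPc : Nat.card P = p ^ q) (hcyc : IsCyclic A)
    (hAn : Nat.card A = (p ^ q - 1) / (p - 1)) (hconj : ∀ a ∈ A, ∀ v ∈ P, a * v * a⁻¹ ∈ P)
    (hfree : ∀ a ∈ A, ∀ v ∈ P, a * v * a⁻¹ = v → a = 1 ∨ v = 1) {s : G} (hs : s ∈ P)
    (hs1 : s ≠ 1) :
    ∃ (F : Type u) (_ : Field F) (α : Multiplicative F →* G)
      (μ : normOne F ((p ^ q - 1) / (p - 1)) →* G),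
      IsFieldModel A P p q ((p ^ q - 1) / (p - 1)) F α μ ∧ α (Multiplicative.ofAdd 1) = s := by
  set n := (p ^ q - 1) / (p - 1) with hn
  letI : CommGroup P := { (inferInstance : Group P) with mul_comm := hab.is_comm.comm }
  -- the action of `A`
  let act : A → AddMonoid.End (Additive P) := fun a =>
    { toFun := fun v => Additive.ofMul
        ⟨(a : G) * (Additive.toMul v : P) * (a : G)⁻¹, hconj a a.2 _ (Additive.toMul v).2⟩
      map_zero' := by
        apply Additive.toMul.injective
        ext
        simp
      map_add' := fun v w => by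
        apply Additive.toMul.injective
        ext
        simp [mul_assoc] }
  have act_apply : ∀ (a : A) (v : Additive P),
      ((Additive.toMul (act a v) : P) : G) = a * (Additive.toMul v : P) * (a : G)⁻¹ :=
    fun _ _ => rfl
  have act_mul : ∀ a b : A, act (a * b) = act a * act b := by
    intro a b
    apply AddMonoidHom.ext
    intro v
    apply Additive.toMul.injective
    ext
    show ((a * b : A) : G) * _ * ((a * b : A) : G)⁻¹ = (a : G) * ((b : G) * _ * (b : G)⁻¹) * (a : G)⁻¹
    simp [mul_assoc]
  have act_one : act 1 = 1 := by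
    apply AddMonoidHom.ext
    intro v
    apply Additive.toMul.injective
    ext
    show ((1 : A) : G) * _ * ((1 : A) : G)⁻¹ = _
    simp
    rfl
  have hcomm : ∀ x ∈ Set.range act, ∀ y ∈ Set.range act, x * y = y * x := by
    rintro _ ⟨a, rfl⟩ _ ⟨b, rfl⟩
    have hAab : a * b = b * a := by
      obtain ⟨g, hg⟩ := hcyc.exists_generator
      obtain ⟨i, rfl⟩ := Subgroup.mem_zpowers_iff.1 (hg a)
      obtain ⟨j, rfl⟩ := Subgroup.mem_zpowers_iff.1 (hg b)
      rw [← zpow_add, ← zpow_add, add_comm]
    rw [← act_mul, ← act_mul, hAab]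
  let R := Subring.closure (Set.range act)
  letI : CommRing R := Subring.closureCommRingOfComm hcomm
  have hfinE : Finite (AddMonoid.End (Additive P)) :=
    Finite.of_injective (fun f => (f : Additive P → Additive P)) DFunLike.coe_injective
  have : Finite R := inferInstance
  set v0 : Additive P := Additive.ofMul ⟨s, hs⟩ with hv0
  have hv00 : v0 ≠ 0 := fun h => hs1 (congrArg (fun v => ((Additive.toMul v : P) : G)) h)
  have hz : ∀ W : AddSubgroup (Additive P), (∀ a, ∀ v ∈ W, act a v ∈ W) → W = ⊥ ∨ W = ⊤ := by
    intro W hW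
    let W' : Subgroup G := (AddSubgroup.toSubgroup' W).map P.subtype
    rcases irreducible hp hq hPc hAn hfree W' (Subgroup.map_subtype_le _) (by
      rintro a ha _ ⟨v, hv, rfl⟩
      exact ⟨_, hW ⟨a, ha⟩ (Additive.ofMul v) hv, rfl⟩) with h | h
    · left
      rw [eq_bot_iff]
      intro v hv
      have : ((Additive.toMul v : P) : G) ∈ W' := ⟨Additive.toMul v, hv, rfl⟩
      rw [h, Subgroup.mem_bot] at this
      rw [AddSubgroup.mem_bot]
      exact Additive.toMul.injective (Subtype.ext this)
    · right
      rw [eq_top_iff]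
      intro v _
      have hvP := (Additive.toMul v : P).2
      have : ((Additive.toMul v : P) : G) ∈ W' := by rw [h]; exact hvP
      obtain ⟨w, hw, hwv⟩ := this
      have e : w = Additive.toMul v := Subtype.ext hwv
      rw [e] at hw
      exact hw
  have hRcomm : ∀ (r : R) (a : A) (v : Additive P),
      (r : AddMonoid.End (Additive P)) (act a v) = act a ((r : AddMonoid.End (Additive P)) v) := by
    intro r a v
    have h : r * (⟨act a, Subring.subset_closure ⟨a, rfl⟩⟩ : R)
        = (⟨act a, Subring.subset_closure ⟨a, rfl⟩⟩ : R) * r := mul_comm _ _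
    exact congrArg (fun f : R => (f : AddMonoid.End (Additive P)) v) h
  have hker : ∀ r : R, ∀ v, v ≠ 0 → (r : AddMonoid.End (Additive P)) v = 0 → r = 0 := by
    intro r v hv h
    let W : AddSubgroup (Additive P) := AddMonoidHom.ker (r : AddMonoid.End (Additive P))
    rcases hz W (fun a w hw => by
      change (r : AddMonoid.End (Additive P)) (act a w) = 0
      rw [hRcomm, show (r : AddMonoid.End (Additive P)) w = 0 from hw, map_zero]) with h' | h'
    · have : v ∈ W := h
      rw [h', AddSubgroup.mem_bot] at this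
      exact absurd this hv
    · apply Subtype.ext
      apply AddMonoidHom.ext
      intro w
      have : w ∈ W := by rw [h']; trivial
      exact this
  let evh : R →+ Additive P :=
    { toFun := fun r => (r : AddMonoid.End (Additive P)) v0
      map_zero' := rfl
      map_add' := fun _ _ => rfl }
  have hinj : Function.Injective evh := by
    rw [injective_iff_map_eq_zero]
    exact fun r hr => hker r v0 hv00 hr
  have hsurj : Function.Surjective evh := by
    rw [← AddMonoidHom.range_eq_top]
    refine (hz evh.range fun a v hv => ?_).resolve_left fun h => ?_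
    · obtain ⟨r, rfl⟩ := hv
      exact ⟨(⟨act a, Subring.subset_closure ⟨a, rfl⟩⟩ : R) * r, rfl⟩
    · have : v0 ∈ evh.range := ⟨1, rfl⟩
      rw [h, AddSubgroup.mem_bot] at this
      exact hv00 this
  have : Nontrivial R := ⟨⟨1, 0, fun h => hv00 (congrArg evh h)⟩⟩
  have : NoZeroDivisors R := ⟨fun {a b} hab' => by
    by_contra hc
    push Not at hc
    apply hc.1
    refine hker a (evh b) (fun h => hc.2 (hinj (h.trans (map_zero evh).symm))) ?_
    show evh (a * b) = 0
    rw [hab', map_zero]⟩
  have : IsDomain R := NoZeroDivisors.to_isDomain R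
  letI : Field R := (Finite.isField_of_domain R).toField
  have hcard : Nat.card R = p ^ q := by
    rw [Nat.card_congr (Equiv.ofBijective evh ⟨hinj, hsurj⟩), Nat.card_congr Additive.toMul, hPc]
  have hchar : CharP R p := by
    refine (CharP.charP_iff_prime_eq_zero hp).2 ?_
    apply hinj
    rw [map_zero, ← nsmul_one, map_nsmul]
    apply Additive.toMul.injective
    rw [toMul_nsmul, toMul_zero]
    ext
    simp only [SubmonoidClass.coe_pow, Subgroup.coe_one]
    exact hpow _ hs
  let α : Multiplicative R →* G :=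
    { toFun := fun x => ((Additive.toMul (evh (Multiplicative.toAdd x)) : P) : G)
      map_one' := by simp
      map_mul' := fun x y => by simp }
  let actU : A →* Rˣ :=
    { toFun := fun a =>
        ⟨⟨act a, Subring.subset_closure ⟨a, rfl⟩⟩, ⟨act a⁻¹, Subring.subset_closure ⟨_, rfl⟩⟩,
          Subtype.ext (by show act a * act a⁻¹ = 1; rw [← act_mul, mul_inv_cancel, act_one]),
          Subtype.ext (by show act a⁻¹ * act a = 1; rw [← act_mul, inv_mul_cancel, act_one])⟩
      map_one' := Units.ext (Subtype.ext act_one)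
      map_mul' := fun a b => Units.ext (Subtype.ext (act_mul a b)) }
  have hactinj : Function.Injective actU := by
    rw [injective_iff_map_eq_one]
    intro a ha
    have h : act a v0 = v0 := by
      have := congrArg (fun u : Rˣ => evh (u : R)) ha
      exact this
    have h' := congrArg (fun v => ((Additive.toMul v : P) : G)) h
    simp only [act_apply, hv0, toMul_ofMul] at h'
    rcases hfree a a.2 s hs h' with h'' | h''
    · exact Subtype.ext h''
    · exact absurd h'' hs1
  have hnpos : 0 < n := by
    have h : 0 < Nat.card A := Nat.card_pos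
    omega
  have hmem : ∀ a, actU a ∈ normOne R n := by
    intro a
    rw [normOne, MonoidHom.mem_ker, powMonoidHom_apply, ← map_pow, ← hAn, pow_card_eq_one',
      map_one]
  have : Finite Rˣ := inferInstance
  have hNle : Nat.card (normOne R n) ≤ n := by
    have : IsCyclic Rˣ := inferInstance
    have : Fintype Rˣ := Fintype.ofFinite _
    rw [Nat.card_eq_fintype_card]
    refine le_trans (le_of_eq ?_) (IsCyclic.card_pow_eq_one_le (α := Rˣ) hnpos)
    rw [Fintype.card_subtype]
    congr 1
    ext u
    simp [normOne]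
  let e : A →* normOne R n := actU.codRestrict _ hmem
  have he : Function.Bijective e := by
    have hi : Function.Injective e := fun a b h => hactinj (congrArg Subtype.val h)
    exact ⟨hi, Function.Injective.bijective_of_nat_card_le hi (by rw [hAn]; exact hNle) |>.2⟩
  let e' := MulEquiv.ofBijective e he
  refine ⟨R, inferInstance, α, A.subtype.comp e'.symm.toMonoidHom,
    ⟨hchar, inferInstance, hcard, ?_, ?_, ?_, ?_, ?_⟩, ?_⟩
  · intro x y h
    exact Multiplicative.toAdd.injective (hinj (Additive.toMul.injective (Subtype.ext h)))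
  · apply le_antisymm
    · rintro _ ⟨x, rfl⟩
      exact (Additive.toMul (evh (Multiplicative.toAdd x)) : P).2
    · intro v hv
      obtain ⟨r, hr⟩ := hsurj (Additive.ofMul ⟨v, hv⟩)
      exact ⟨Multiplicative.ofAdd r, by simp [α, hr]⟩
  · exact fun a b h => e'.symm.injective (Subtype.ext h)
  · rw [MonoidHom.range_comp, MonoidHom.range_eq_top.2 e'.symm.surjective, ← MonoidHom.range_eq_map,
      Subgroup.range_subtype]
  · intro b x
    obtain ⟨a, rfl⟩ := e'.surjective b
    simp only [MonoidHom.comp_apply, MulEquiv.coe_toMonoidHom, MulEquiv.symm_apply_apply,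
      Subgroup.coe_subtype]
    rfl
  · rfl

end

end CfsgLib.Parabolic
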